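import Cfsg.Agent.H328.Ext.PsuLow

/-!
# S4832, rows `PSU_n(q)`, `n ≥ 4` (helper328)

* `ext_big` : `n ≥ 6`, `q ≥ 3`, the primes of the Levi character;
* `ext_small` : `n = 4`, `5`, `q ≥ 4`.
-/

set_option autoImplicit false
set_option linter.unusedSectionVars false

open scoped ComplexConjugate
open Cfsg

namespace Cfsg.Agent.H328.Ext

open Cfsg.Agent.H477.HC Cfsg.Agent.H53.HC Cfsg.Agent.Characters Module Cfsg.Agent.H576.Ext Cfsg.Agent.H328.Gow
  Cfsg.Agent.H477.HC.CForm Cfsg.Agent.ClassicalGeometry.PSUAutBasic Cfsg.Agent.ClassicalGeometry.PSUAutCount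
  Cfsg.Agent.LieClassical.HermBasic Cfsg.Agent.LieClassical.HermSiegel Cfsg.Agent.LieClassical.HermGen
  Cfsg.Agent.LieClassical.SUBasic Cfsg.Agent.H113.PSU.Levi Cfsg.Agent.H113.PSU.Facts

universe u

variable {K : Type u} [Field K] [Fintype K] {q n : ℕ}

/-- **`n ≥ 6`, `q ≥ 3`** -/
theorem ext_big (hF : Fintype.card K = q ^ 2) (h3 : 3 ≤ q) {k n' : ℕ} (hk : 3 ≤ k) (hn' : n' ≤ 1) {r i : ℕ}
    (hr : r.Prime) (hi : i ∈ idx (k + (k + n'))) (hri : r ∣ uu q i) : HasExt r (PSU (k + (k + n')) K q) := by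
  classical
  have hq : Nat.card K = q ^ 2 := by rw [Nat.card_eq_fintype_card, hF]
  have := finite_Om (CForm.hermF K hq (k + (k + n'))) k
  have hfi := finite_iso (CForm.hermF K hq (k + (k + n')))
  let _ := Fintype.ofFinite ((CForm.hermF K hq (k + (k + n'))).Om k)
  let _ := Fintype.ofFinite (sg (CForm.hermF K hq (k + (k + n'))))
  obtain ⟨c, hc, hgen⟩ := Cfsg.Agent.H855.Ext.exists_cusG_herm hq h3 k hk (powHom hq) (powHom_apply hq)
  obtain ⟨η, e, hη, h0, he, he0, hed, ht⟩ := exists_low hF hq (by omega) hc (n' := n')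
  refine ⟨η, hη, ?_, ?_⟩
  · rw [H670.PSing.charDegree_eq_of he]
    exact dvd_low hF hq hn' (by omega) hed ht hr hi hri
  · exact ext_hc (CForm.hermF K hq (k + (k + n'))) (by omega) (sg_semi hF hq (by omega))
      (hasRoots_sg hq h3) (hasLevi_bot _ (hasRoots_sg hq h3) k) hc.irr hc.cusp hc.dual hc.self (hc.opp hk) hgen hc.nu
      (center_psu hF (by omega)) (qh hq _) (qh_surjective hq _) (qh_ker hF hq (by omega)) (aut_semi hF hq (by omega))
      hη h0

section Small

/-- conjugation by elements of `GU` is a homomorphism -/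
theorem toAut_mul (A B : GU n K q) :
    toAut (A * B) (RingEquiv.refl K) = toAut A (RingEquiv.refl K) * toAut B (RingEquiv.refl K) := by
  apply MulEquiv.ext
  intro x
  obtain ⟨g, rfl⟩ := pr_surjective x
  rw [MulAut.mul_apply, Cfsg.Agent.ClassicalGeometry.PSUAutMain.toAut_pr',
    Cfsg.Agent.ClassicalGeometry.PSUAutMain.toAut_pr', Cfsg.Agent.ClassicalGeometry.PSUAutMain.toAut_pr']
  congr 1
  apply ext_act
  intro v
  have h1 : ∀ (A : GU n K q) (g : SU n K q) (v : Fin n → K), act (semiConj A (RingEquiv.refl K) g) ((gm A).mulVec v) =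
      (gm A).mulVec (act g v) := fun A g v => act_semiConj A (RingEquiv.refl K) g v
  have h2 : v = (gm (A * B)).mulVec ((gm (A * B)⁻¹).mulVec v) := (gm_mulVec_inv _ _).symm
  rw [h2]
  generalize (gm (A * B)⁻¹).mulVec v = w
  rw [h1, gm_mul, ← Matrix.mulVec_mulVec, ← Matrix.mulVec_mulVec, h1, h1]

/-- `GU → Aut PSU` -/
noncomputable def toAutHom (n : ℕ) (K : Type u) [Field K] [Fintype K] (q : ℕ) : GU n K q →* MulAut (PSU n K q) :=
  MonoidHom.mk' (fun A => toAut A (RingEquiv.refl K)) toAut_mul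

theorem toAutHom_apply (A : GU n K q) : toAutHom n K q A = toAut A (RingEquiv.refl K) := rfl

/-- matrices of determinant one induce inner automorphisms -/
theorem toAutHom_det {A : GU n K q} (h : ((A : GL (Fin n) K) : Matrix (Fin n) (Fin n) K).det = 1) :
    ∃ s : PSU n K q, toAutHom n K q A = MulAut.conj s := by
  let B : SU n K q := ⟨⟨((A : GL (Fin n) K) : Matrix (Fin n) (Fin n) K), h⟩, A.2⟩
  have hB : ∀ v, act B v = (gm A).mulVec v := fun v => rfl
  refine ⟨pr n K q B, ?_⟩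
  apply MulEquiv.ext
  intro x
  obtain ⟨g, rfl⟩ := pr_surjective x
  rw [toAutHom_apply, Cfsg.Agent.ClassicalGeometry.PSUAutMain.toAut_pr', MulAut.conj_apply, ← map_mul, ← map_inv,
    ← map_mul]
  congr 1
  apply ext_act
  intro v
  have h2 : v = (gm A).mulVec ((gm A⁻¹).mulVec v) := (gm_mulVec_inv _ _).symm
  rw [h2]
  generalize (gm A⁻¹).mulVec v = w
  have h1 : act (semiConj A (RingEquiv.refl K) g) ((gm A).mulVec w) = (gm A).mulVec (act g w) :=
    act_semiConj A (RingEquiv.refl K) g w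
  rw [h1, ← hB w, act_mul, act_mul]
  have h3 : act B⁻¹ (act B w) = w := by
    rw [← act_mul, inv_mul_cancel, act_one]
  rw [h3, hB]

/-- the characters of `PSU_n(q)` fixed by no field automorphism -/
theorem ext_cyc (hF : Fintype.card K = q ^ 2) (hn : 4 ≤ n) {η : PSU n K q → ℂ} (hη : IsIrrCharacter _ η)
    (h : ∀ (A : GU n K q) (ρ : K ≃+* K), toAut A ρ ∈ stab η → ρ = RingEquiv.refl K) : ExtTo η (stab η) := by
  classical
  have hI : (MulAut.conj (G := PSU n K q)).range ≤ stab η := by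
    rintro _ ⟨s, rfl⟩ x
    rw [MulAut.conj_apply]
    exact Core.isIrr_isClassFunction hη x s
  refine extTo_of_cyc (center_psu hF hn) hη hI le_rfl ?_
  let det : GU n K q →* Kˣ := Matrix.GeneralLinearGroup.det.comp (GU n K q).subtype
  let P : Subgroup Kˣ := ((stab η).comap (toAutHom n K q)).map det
  have hP : IsCyclic P := inferInstance
  obtain ⟨⟨d, hd⟩, hgen⟩ := hP.exists_generator
  obtain ⟨A₀, hA₀, hA₀d⟩ := hd
  refine ⟨toAutHom n K q A₀, hA₀, fun α hα => ?_⟩
  obtain ⟨A, ρ, rfl⟩ := Cfsg.Agent.ClassicalGeometry.PSUAutMain.exists_toAut hF (by omega) (by omega) α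
  have hρ := h A ρ hα
  subst hρ
  have h1 : det A ∈ P := ⟨A, hα, rfl⟩
  obtain ⟨k, hk⟩ := Subgroup.mem_zpowers_iff.1 (hgen ⟨det A, h1⟩)
  have hk' : d ^ k = det A := congrArg Subtype.val hk
  obtain ⟨s, hs⟩ := toAutHom_det (A := A * (A₀ ^ k)⁻¹) (by
    have h2 : det (A * (A₀ ^ k)⁻¹) = 1 := by
      rw [map_mul, map_inv, map_zpow, hA₀d, hk', mul_inv_cancel]
    exact congrArg Units.val h2)
  refine ⟨k, s, ?_⟩
  rw [← hs, ← map_zpow, ← map_mul, inv_mul_cancel_right]
  rfl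

/-- **`n = 4`, `5`, `q ≥ 4`** -/
theorem ext_small (hF : Fintype.card K = q ^ 2) (h4 : 4 ≤ q) {n' : ℕ} (hn' : n' ≤ 1) {r i : ℕ}
    (hr : r.Prime) (hi : i ∈ idx (2 + (2 + n'))) (hri : r ∣ uu q i) : HasExt r (PSU (2 + (2 + n')) K q) := by
  classical
  have hq : Nat.card K = q ^ 2 := by rw [Nat.card_eq_fintype_card, hF]
  have := finite_Om (CForm.hermF K hq (2 + (2 + n'))) 2
  have hfi := finite_iso (CForm.hermF K hq (2 + (2 + n')))
  let _ := Fintype.ofFinite ((CForm.hermF K hq (2 + (2 + n'))).Om 2)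
  let _ := Fintype.ofFinite (sg (CForm.hermF K hq (2 + (2 + n'))))
  obtain ⟨c, hc, hgen⟩ := Cfsg.Agent.H855.Ext.exists_cusG_herm_two hq h4 (powHom hq) (powHom_apply hq) (Dq K q) (fun z hz => hz)
  obtain ⟨η, e, hη, h0, he, he0, hed, ht⟩ := exists_low hF hq (by omega) hc (n' := n')
  refine ⟨η, hη, ?_, ?_⟩
  · rw [H670.PSing.charDegree_eq_of he]
    exact dvd_low hF hq hn' le_rfl hed ht hr hi hri
  · refine ext_cyc hF (by omega) hη fun A ρ hα => ?_
    by_contra hρ
    have hex : ∃ x, ρ x ≠ x := by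
      by_contra hno
      push Not at hno
      exact hρ (RingEquiv.ext hno)
    obtain ⟨h1, h2⟩ := hgen ρ hex
    have hθ : IsIrrCharacter (sg (CForm.hermF K hq (2 + (2 + n'))))
        (η ∘ (qh hq (2 + (2 + n')))) := Core.isIrr_comp (qh hq (2 + (2 + n'))) (qh_surjective hq _) hη
    let α : sg (CForm.hermF K hq (2 + (2 + n'))) ≃* sg (CForm.hermF K hq (2 + (2 + n'))) :=
      ((eSg hq (2 + (2 + n'))).symm.trans (semiConj A ρ)).trans (eSg hq (2 + (2 + n')))
    have hα' : ∀ (g : sg (CForm.hermF K hq (2 + (2 + n')))) (v : Fin (2 + (2 + n')) → K),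
        ((α g : (CForm.hermF K hq (2 + (2 + n'))).iso) : (Fin (2 + (2 + n')) → K) ≃ₗ[K] (Fin (2 + (2 + n')) → K))
          ((semi hq A ρ).γ v) = (semi hq A ρ).γ (((g : (CForm.hermF K hq (2 + (2 + n'))).iso) :
            (Fin (2 + (2 + n')) → K) ≃ₗ[K] (Fin (2 + (2 + n')) → K)) v) := by
      intro g v
      change act (semiConj A ρ ((eSg hq (2 + (2 + n'))).symm g)) ((gm A).mulVec fun i => ρ (v i)) = _
      rw [act_semiConj, semi_apply]
      congr 1
      funext i
      rw [eSg_symm_val]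
    refine eq_one_of_fix (CForm.hermF K hq (2 + (2 + n'))) le_rfl (hasRoots_sg hq (by omega))
      (hasLevi_Dq hq (by omega) two_pos) hc.irr hc.cusp ρ h1 h2 hθ h0 (semi hq A ρ).γ (semi hq A ρ).smul ?_ ?_ α hα' ?_
    · intro v w
      rw [(semi hq A ρ).hB]
      change (1 : K) * ρ _ = 0 ↔ _
      rw [one_mul, map_eq_zero_iff ρ ρ.injective]
    · intro v
      rw [(semi hq A ρ).hQ]
      change (1 : K) * ρ _ = 0 ↔ _
      rw [one_mul, map_eq_zero_iff ρ ρ.injective]
    · intro g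
      rw [Function.comp_apply, Function.comp_apply, ← toAut_qh hq A ρ g (α g) (hα' g)]
      exact hα _

end Small

end Cfsg.Agent.H328.Ext
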