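import Cfsg.Agent.H464.ExtSemi
import Cfsg.Agent.H328.Gow.RowPsu
import Cfsg.Agent.H113.PSU.Facts
import Cfsg.Agent.ClassicalGeometry.PSUAutMain
import Cfsg.Agent.CpAut.Fix
import Cfsg.Agent.S0283

/-!
# S4832, rows `PSU_n(q)`: the group `SU_n(q)` as a group of isometries and the automorphisms (helper328)
-/

set_option autoImplicit false
set_option linter.unusedSectionVars false

open scoped ComplexConjugate
open Cfsg

namespace Cfsg.Agent.H328.Ext

open Cfsg.Agent.H477.HC Cfsg.Agent.H53.HC Cfsg.Agent.Characters Module Cfsg.Agent.H576.Ext Cfsg.Agent.H328.Gow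
  Cfsg.Agent.H477.HC.CForm Cfsg.Agent.ClassicalGeometry.PSUAutBasic Cfsg.Agent.ClassicalGeometry.PSUAutCount
  Cfsg.Agent.LieClassical.HermBasic Cfsg.Agent.LieClassical.HermSiegel Cfsg.Agent.LieClassical.HermGen
  Cfsg.Agent.LieClassical.SUBasic

universe u

variable {K : Type u} [Field K] [Fintype K] {q n : ℕ}

section Iso

theorem suHom_val (hq : Nat.card K = q ^ 2) (n : ℕ) (A : SU n K q) (v : Fin n → K) :
    (((suHom hq n A : sg (CForm.hermF K hq n)) : (CForm.hermF K hq n).iso) : (Fin n → K) ≃ₗ[K] (Fin n → K)) v =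
      act A v := rfl

theorem suHom_injective (hq : Nat.card K = q ^ 2) (n : ℕ) : Function.Injective (suHom (K := K) hq n) := by
  intro A B h
  apply ext_act
  intro v
  rw [← suHom_val hq n A v, ← suHom_val hq n B v, h]

/-- `SU` is the special isometry group -/
noncomputable def eSg (hq : Nat.card K = q ^ 2) (n : ℕ) : SU n K q ≃* sg (CForm.hermF K hq n) :=
  MulEquiv.ofBijective (suHom hq n) ⟨suHom_injective hq n, suHom_surjective hq n⟩

theorem eSg_val (hq : Nat.card K = q ^ 2) (n : ℕ) (A : SU n K q) (v : Fin n → K) :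
    (((eSg hq n A : sg (CForm.hermF K hq n)) : (CForm.hermF K hq n).iso) : (Fin n → K) ≃ₗ[K] (Fin n → K)) v =
      act A v := rfl

theorem eSg_symm_val (hq : Nat.card K = q ^ 2) (n : ℕ) (g : sg (CForm.hermF K hq n)) (v : Fin n → K) :
    act ((eSg hq n).symm g) v = ((g : (CForm.hermF K hq n).iso) : (Fin n → K) ≃ₗ[K] (Fin n → K)) v := by
  rw [← eSg_val hq n, MulEquiv.apply_symm_apply]

/-- the projection -/
noncomputable def qh (hq : Nat.card K = q ^ 2) (n : ℕ) : sg (CForm.hermF K hq n) →* PSU n K q :=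
  (pr n K q).comp (eSg hq n).symm.toMonoidHom

theorem qh_eSg (hq : Nat.card K = q ^ 2) (n : ℕ) (A : SU n K q) : qh hq n (eSg hq n A) = pr n K q A := by
  change pr n K q ((eSg hq n).symm (eSg hq n A)) = _
  rw [MulEquiv.symm_apply_apply]

theorem qh_apply (hq : Nat.card K = q ^ 2) (n : ℕ) (g : sg (CForm.hermF K hq n)) :
    qh hq n g = pr n K q ((eSg hq n).symm g) := rfl

theorem qh_surjective (hq : Nat.card K = q ^ 2) (n : ℕ) : Function.Surjective (qh (K := K) hq n) := by
  intro x
  obtain ⟨A, rfl⟩ := pr_surjective x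
  exact ⟨eSg hq n A, qh_eSg hq n A⟩

theorem qh_ker (hF : Fintype.card K = q ^ 2) (hq : Nat.card K = q ^ 2) (hn : 3 ≤ n)
    (g : sg (CForm.hermF K hq n)) : qh hq n g = 1 ↔
      ∃ a : K, ∀ v, ((g : (CForm.hermF K hq n).iso) : (Fin n → K) ≃ₗ[K] (Fin n → K)) v = a • v := by
  rw [qh_apply, pr_eq_one_iff]
  constructor
  · intro h
    obtain ⟨c, -, -, hc⟩ := exists_scalar_of_mem_center hF hn h
    exact ⟨c, fun v => by rw [← eSg_symm_val, hc]⟩
  · rintro ⟨a, ha⟩
    exact mem_center_of_act (c := a) fun v => by rw [eSg_symm_val, ha]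

instance sg_normal {V : Type*} [AddCommGroup V] [Module K V] (F : CForm K V) : (sg F).Normal :=
  MonoidHom.normal_ker _

end Iso

section Simple

theorem simple_psu (hF : Fintype.card K = q ^ 2) (hn : 4 ≤ n) : IsSimpleGroup (PSU n K q) :=
  S0283.result hF n (by omega) (by omega)

theorem not_comm_psu (hF : Fintype.card K = q ^ 2) (hn : 4 ≤ n) : ¬ IsMulCommutative (PSU n K q) := by
  have := simple_psu hF hn
  exact Cfsg.Agent.CpAut.Fix.not_comm_quot (H := SU n K q)

theorem center_psu (hF : Fintype.card K = q ^ 2) (hn : 4 ≤ n) : Subgroup.center (PSU n K q) = ⊥ := by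
  have := simple_psu hF hn
  exact Cfsg.Agent.CpAut.Fix.center_eq_bot (not_comm_psu hF hn)

/-- the special isometry group is the commutator subgroup -/
theorem comm_le_sg {V : Type*} [AddCommGroup V] [Module K V] (F : CForm K V) : commutator F.iso ≤ sg F := by
  have h : sg F = (LinearEquiv.det.comp F.iso.subtype).ker := rfl
  rw [h]
  exact Abelianization.commutator_subset_ker _

theorem sg_le_comm (hF : Fintype.card K = q ^ 2) (hq : Nat.card K = q ^ 2) (hn : 4 ≤ n) :
    sg (CForm.hermF K hq n) ≤ commutator (CForm.hermF K hq n).iso := by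
  intro g hg
  have hperf : commutator (SU n K q) = ⊤ :=
    Cfsg.Agent.LieClassical.HermPerfect.commutator_SU_eq_top hF (by omega) (by omega)
  obtain ⟨A, hA⟩ := (eSg hq n).surjective ⟨g, hg⟩
  have h1 : A ∈ commutator (SU n K q) := by rw [hperf]; trivial
  have h2 := Subgroup.mem_map_of_mem ((sg (CForm.hermF K hq n)).subtype.comp (eSg hq n).toMonoidHom) h1
  have h3 : ((sg (CForm.hermF K hq n)).subtype.comp (eSg hq n).toMonoidHom) A = g := congrArg Subtype.val hA
  rw [h3, commutator_def, Subgroup.map_commutator] at h2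
  exact Subgroup.commutator_mono le_top le_top h2

end Simple

section Semi

/-- the special isometry group is invariant under semisimilarities -/
theorem sg_semi (hF : Fintype.card K = q ^ 2) (hq : Nat.card K = q ^ 2) (hn : 4 ≤ n)
    (s : Semi (CForm.hermF K hq n)) (g : sg (CForm.hermF K hq n)) : ∃ g' : sg (CForm.hermF K hq n), ∀ v,
      ((g' : (CForm.hermF K hq n).iso) : (Fin n → K) ≃ₗ[K] (Fin n → K)) (s.γ v) =
        s.γ (((g : (CForm.hermF K hq n).iso) : (Fin n → K) ≃ₗ[K] (Fin n → K)) v) := by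
  obtain ⟨g', hg'⟩ := semi_comm s ⟨g, sg_le_comm hF hq hn g.2⟩
  exact ⟨⟨g', comm_le_sg _ g'.2⟩, hg'⟩

/-- the semisimilarity of `A ∘ ρ` -/
noncomputable def semi (hq : Nat.card K = q ^ 2) (A : GU n K q) (ρ : K ≃+* K) : Semi (CForm.hermF K hq n) where
  τ := ρ
  lam := 1
  hlam := one_ne_zero
  γ := { toFun := fun v => (gm A).mulVec fun i => ρ (v i)
         invFun := fun v i => ρ.symm ((gm A⁻¹).mulVec v i)
         left_inv := fun v => by
           funext i
           simp only
           rw [gm_inv_mulVec, RingEquiv.symm_apply_apply]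
         right_inv := fun v => by
           have h : (fun i => ρ (ρ.symm ((gm A⁻¹).mulVec v i))) = (gm A⁻¹).mulVec v := by
             funext i
             rw [RingEquiv.apply_symm_apply]
           simp only
           rw [h, gm_mulVec_inv]
         map_add' := fun v w => by
           have h : (fun i => ρ ((v + w) i)) = (fun i => ρ (v i)) + fun i => ρ (w i) := by
             funext i
             simp
           rw [h, Matrix.mulVec_add] }
  smul := fun a v => by
    change (gm A).mulVec (fun i => ρ ((a • v) i)) = ρ a • (gm A).mulVec fun i => ρ (v i)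
    have h : (fun i => ρ ((a • v) i)) = ρ a • fun i => ρ (v i) := by
      funext i
      simp
    rw [h, Matrix.mulVec_smul]
  hB := fun v w => by
    rw [one_mul]
    exact herm_semi A ρ v w
  hQ := fun v => by
    rw [one_mul]
    exact herm_semi A ρ v v

theorem semi_apply (hq : Nat.card K = q ^ 2) (A : GU n K q) (ρ : K ≃+* K) (v : Fin n → K) :
    (semi hq A ρ).γ v = (gm A).mulVec fun i => ρ (v i) := rfl

theorem toAut_qh (hq : Nat.card K = q ^ 2) (A : GU n K q) (ρ : K ≃+* K) (g g' : sg (CForm.hermF K hq n))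
    (h : ∀ v, ((g' : (CForm.hermF K hq n).iso) : (Fin n → K) ≃ₗ[K] (Fin n → K)) ((semi hq A ρ).γ v) =
      (semi hq A ρ).γ (((g : (CForm.hermF K hq n).iso) : (Fin n → K) ≃ₗ[K] (Fin n → K)) v)) :
    toAut A ρ (qh hq n g) = qh hq n g' := by
  rw [qh_apply, qh_apply, Cfsg.Agent.ClassicalGeometry.PSUAutMain.toAut_pr']
  congr 1
  apply ext_act
  intro x
  obtain ⟨y, rfl⟩ := (semi hq A ρ).γ.surjective x
  rw [eSg_symm_val, h, semi_apply, semi_apply, act_semiConj]
  congr 1
  funext i
  rw [eSg_symm_val]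

/-- **all automorphisms are semisimilarities** -/
theorem aut_semi (hF : Fintype.card K = q ^ 2) (hq : Nat.card K = q ^ 2) (hn : 4 ≤ n) (α : MulAut (PSU n K q)) :
    ∃ s : Semi (CForm.hermF K hq n), ∀ g g' : sg (CForm.hermF K hq n),
      (∀ v, ((g' : (CForm.hermF K hq n).iso) : (Fin n → K) ≃ₗ[K] (Fin n → K)) (s.γ v) =
        s.γ (((g : (CForm.hermF K hq n).iso) : (Fin n → K) ≃ₗ[K] (Fin n → K)) v)) → α (qh hq n g) = qh hq n g' := by
  obtain ⟨A, ρ, rfl⟩ := Cfsg.Agent.ClassicalGeometry.PSUAutMain.exists_toAut hF (by omega) (by omega) α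
  exact ⟨semi hq A ρ, fun g g' h => toAut_qh hq A ρ g g' h⟩

end Semi

/-- the data of the rank 3 rows -/
noncomputable def psuQ (hF : Fintype.card K = q ^ 2) (hq : Nat.card K = q ^ 2) (hn : 4 ≤ n) :
    SemiQ (CForm.hermF K hq n) (sg (CForm.hermF K hq n)) (PSU n K q) where
  q := qh hq n
  surj := qh_surjective hq n
  ker := qh_ker hF hq (by omega)
  inv := sg_semi hF hq hn

theorem psuQ_ind (hF : Fintype.card K = q ^ 2) (hq : Nat.card K = q ^ 2) (hn : 4 ≤ n) (α : MulAut (PSU n K q)) :
    ∃ s : Semi (CForm.hermF K hq n), (psuQ hF hq hn).Ind s α := aut_semi hF hq hn α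

end Cfsg.Agent.H328.Ext
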