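import Cfsg.Agent.H328.Ext.PsuRow
import Cfsg.Agent.H464.ExtRowsU

/-!
# S4832, rows `PSU_n(q)`, `n ≥ 4` (helper328)
-/

set_option autoImplicit false

open Cfsg

namespace Cfsg.Agent.H328.Ext

open Cfsg.Agent.H576.Ext

universe u

/-- **`PSU_n(q)`, `n ≥ 4`** -/
theorem row_psu {K : Type u} [Field K] [Fintype K] {q n : ℕ} (hF : Fintype.card K = q ^ 2) (hn : 4 ≤ n) {p : ℕ}
    (hp : p.Prime) (hpq : ¬ p ∣ Fintype.card K) (hd : p ∣ Nat.card (PSU n K q)) : HasExt p (PSU n K q) :=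
  row_psu_of hF hn ⟨fun _ _ _ hf hpf => H464.ExtRU.hasExt_psu_left hF hn hf hpf,
    fun _ _ _ hg hpg => H464.ExtRU.hasExt_psu_right hF hn hg hpg⟩ hp
    (fun h => hpq (by rw [hF]; exact h.trans (dvd_pow_self q two_ne_zero))) hd

end Cfsg.Agent.H328.Ext
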