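import Cfsg.Agent.H576.Ext.Row
import Cfsg.Agent.H67.ExtBase
import Cfsg.Agent.H855.Ext.Herm
import Cfsg.Agent.H328.Ext.PsuBase

/-!
# S4832, rows `PSU_n(q)`: root and Levi elements of `SU_n(q)` (helper328)
-/

set_option autoImplicit false
set_option linter.unusedSectionVars false

open scoped ComplexConjugate
open Cfsg

namespace Cfsg.Agent.H328.Ext

open Cfsg.Agent.H477.HC Cfsg.Agent.H53.HC Cfsg.Agent.Characters Module Cfsg.Agent.H576.Ext Cfsg.Agent.H328.Gow
  Cfsg.Agent.H477.HC.CForm Cfsg.Agent.ClassicalGeometry.PSUAutBasic Cfsg.Agent.ClassicalGeometry.PSUAutCount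
  Cfsg.Agent.LieClassical.HermBasic Cfsg.Agent.LieClassical.HermSiegel Cfsg.Agent.LieClassical.HermGen
  Cfsg.Agent.LieClassical.SUBasic

universe u

variable {K : Type u} [Field K] [Fintype K] {q n : ℕ}

section Levi

theorem hasRoots_sg (hq : Nat.card K = q ^ 2) (hq3 : 3 ≤ q) : HasRoots (CForm.hermF K hq n) (sg (CForm.hermF K hq n)) := by
  refine hasRoots_of_comm _ (comm_le_sg _) ?_
  classical
  have h1 : 2 < Nat.card K := by rw [hq]; nlinarith
  by_contra hno
  push Not at hno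
  have h2 : (Finset.univ : Finset K) ⊆ {0, 1} := by
    intro t _
    by_cases h : t = 0
    · simp [h]
    · simp [hno t h]
  have h3 := Finset.card_le_card h2
  rw [Finset.card_univ, ← Nat.card_eq_fintype_card] at h3
  have h4 : ({0, 1} : Finset K).card ≤ 2 := Finset.card_le_two
  omega

/-- the elements of norm one... the fixed units of the involution -/
def Dq (K : Type u) [Field K] (q : ℕ) : Subgroup Kˣ := (powMonoidHom (q - 1) : Kˣ →* Kˣ).ker

theorem mem_Dq {z : Kˣ} : z ∈ Dq K q ↔ z ^ (q - 1) = 1 := Iff.rfl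

theorem hasLevi_Dq (hq : Nat.card K = q ^ 2) (hq3 : 3 ≤ q) {k : ℕ} (hk : 0 < k) :
    HasLevi (CForm.hermF K hq n) (sg (CForm.hermF K hq n)) (Dq K q) k := by
  set F := CForm.hermF K hq n with hF
  intro W hW W' hW' h0 g hgW hgW' h hdet hfix
  obtain ⟨b, b', hb⟩ := CForm.exists_dual_basis hW.2 hW'.2 h0
  set a : Kˣ := LinearEquiv.det (res (F.iso.subtype g) W h) with ha
  have hsσ : (a : K) * (F.σ a)⁻¹ = 1 := by
    have h1 : a ^ (q - 1) = 1 := hdet
    have h2 : F.σ a = (a : K) ^ q := powHom_apply hq _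
    have h3 : (a : K) ^ q = a := by
      have h4 : q = (q - 1) + 1 := by omega
      conv_lhs => rw [h4]
      rw [pow_succ, ← Units.val_pow_eq_pow_val, h1, Units.val_one, one_mul]
    rw [h2, h3, mul_inv_cancel₀ a.ne_zero]
  obtain ⟨d, hd, hd'⟩ := exists_dil F (hW.1.sing (b ⟨0, hk⟩).2) (hW'.1.sing (b' ⟨0, hk⟩).2) (by rw [hb, if_pos rfl]) a
  have hdsg : d ∈ sg F := by rw [mem_sg, hd', hsσ]
  set e : Fin n → K := (b ⟨0, hk⟩ : Fin n → K) with he
  set f : Fin n → K := (b' ⟨0, hk⟩ : Fin n → K) with hf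
  have heW : e ∈ W := (b ⟨0, hk⟩).2
  have hfW : f ∈ W' := (b' ⟨0, hk⟩).2
  have hdTW : d ∈ F.TT W := F.mem_TT_of hW.1 fun v hv => by
    rw [hd, hv e heW, mul_zero, zero_smul, add_zero, add_sub_cancel_left]
    exact W.smul_mem _ heW
  have hdTW' : d ∈ F.TT W' := F.mem_TT_of hW'.1 fun v hv => by
    rw [hd, hv f hfW, mul_zero, zero_smul, add_zero, add_sub_cancel_left]
    exact W'.smul_mem _ hfW
  have hdW := hdTW.1
  have hgd : g * d⁻¹ ∈ F.TT W := (F.TT W).mul_mem hgW ((F.TT W).inv_mem hdTW)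
  have hgd' : g * d⁻¹ ∈ F.TT W' := (F.TT W').mul_mem hgW' ((F.TT W').inv_mem hdTW')
  -- the determinant of `d` on `W`
  have hdetd : LinearEquiv.det (res (F.iso.subtype d) W hdW) = a := by
    apply Units.ext
    rw [LinearEquiv.coe_det]
    let φ : Dual K W := ((a : K) - 1) • (F.lf f).comp W.subtype
    have h1 : ((res (F.iso.subtype d) W hdW : W ≃ₗ[K] W) : W →ₗ[K] W) = LinearMap.transvection φ (b ⟨0, hk⟩) := by
      apply LinearMap.ext
      intro w
      apply Subtype.ext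
      rw [LinearMap.transvection.apply]
      change (d : (Fin n → K) ≃ₗ[K] (Fin n → K)) w = (w : Fin n → K) + (((a : K) - 1) • F.B w f) • e
      rw [hd, hW.1.2 w w.2 e heW, mul_zero, zero_smul, add_zero, smul_eq_mul]
    rw [h1, LinearMap.transvection.det]
    change 1 + ((a : K) - 1) • F.B e f = a
    rw [he, hf, hb, if_pos rfl, smul_eq_mul, mul_one]
    ring
  have hone : LinearEquiv.det (res (F.iso.subtype (g * d⁻¹)) W hgd.1) ∈ (⊥ : Subgroup Kˣ) := by
    rw [Subgroup.mem_bot]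
    have h1 : res (F.iso.subtype (g * d⁻¹)) W hgd.1 * res (F.iso.subtype d) W hdW = res (F.iso.subtype g) W h := by
      apply LinearEquiv.ext
      intro w
      apply Subtype.ext
      change ((g * d⁻¹ : F.iso) : (Fin n → K) ≃ₗ[K] (Fin n → K)) ((d : (Fin n → K) ≃ₗ[K] (Fin n → K)) w) =
        (g : (Fin n → K) ≃ₗ[K] (Fin n → K)) w
      change ((g * d⁻¹ * d : F.iso) : (Fin n → K) ≃ₗ[K] (Fin n → K)) w = _
      rw [inv_mul_cancel_right]
    have h2 := congrArg LinearEquiv.det h1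
    rw [map_mul, hdetd, ← ha] at h2
    exact mul_eq_right.1 h2
  have h3 := hasLevi_bot F (hasRoots_sg hq hq3) k W hW W' hW' h0 (g * d⁻¹) hgd hgd' hgd.1 hone (fun v hv hv' => by
    have h4 : (d : (Fin n → K) ≃ₗ[K] (Fin n → K)) v = v := by
      rw [hd, hv e heW, hv' f hfW]
      simp
    have h5 : ((d⁻¹ : F.iso) : (Fin n → K) ≃ₗ[K] (Fin n → K)) v = v := by
      conv_lhs => rw [← h4]
      change ((d⁻¹ * d : F.iso) : (Fin n → K) ≃ₗ[K] (Fin n → K)) v = v
      rw [inv_mul_cancel]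
      rfl
    change (g : (Fin n → K) ≃ₗ[K] (Fin n → K)) (((d⁻¹ : F.iso) : (Fin n → K) ≃ₗ[K] (Fin n → K)) v) = v
    rw [h5]
    exact hfix v hv hv')
  have h6 := (sg F).mul_mem h3 hdsg
  rwa [inv_mul_cancel_right] at h6

end Levi

end Cfsg.Agent.H328.Ext
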