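import Cfsg.Agent.H328.Ext.PsuLevi

/-!
# S4832, rows `PSU_n(q)`: characters of `PSU_n(q)` below the Harish-Chandra induced characters (helper328)

* `exists_under` : the constituents of `χ|_N` with their degrees;
* `exists_low` : an irreducible character of `PSU_n(q)` below `hc c 1`, `n = 2k` or `2k + 1`, with its degree.
-/

set_option autoImplicit false
set_option linter.unusedSectionVars false

open scoped ComplexConjugate
open Cfsg

namespace Cfsg.Agent.H328.Ext

open Cfsg.Agent.H477.HC Cfsg.Agent.H53.HC Cfsg.Agent.Characters Module Cfsg.Agent.H576.Ext Cfsg.Agent.H328.Gow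
  Cfsg.Agent.H477.HC.CForm Cfsg.Agent.ClassicalGeometry.PSUAutBasic Cfsg.Agent.ClassicalGeometry.PSUAutCount
  Cfsg.Agent.LieClassical.HermBasic Cfsg.Agent.LieClassical.HermSiegel Cfsg.Agent.LieClassical.HermGen
  Cfsg.Agent.LieClassical.SUBasic Cfsg.Agent.H113.PSU.Levi Cfsg.Agent.H113.PSU.Facts

universe u

/-- a constituent of the restriction to a normal subgroup, its degree and its kernel -/
theorem exists_under {I : Type u} [Group I] [Finite I] (N : Subgroup I) [N.Normal] [Fintype N] {χ : I → ℂ}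
    (hχ : IsIrrCharacter I χ) {d : ℕ} (hd : χ 1 = d) :
    ∃ (θ : N → ℂ) (e : ℕ), IsIrrCharacter N θ ∧ classInner (fun n : N => χ n) θ ≠ 0 ∧ θ 1 = e ∧ e ∣ d ∧
      d / e ∣ N.index ∧ 0 < e ∧ ∀ z : N, z ∈ Subgroup.center N → χ z = χ 1 → θ z = θ 1 := by
  classical
  let _ : Fintype I := Fintype.ofFinite I
  have hα : IsCharacter N (χ ∘ N.subtype) := Core.isCharacter_comp N.subtype (Core.isIrr_isCharacter hχ)
  obtain ⟨θ, hθ, hθ'⟩ := exists_constituent hα (by
    rw [Function.comp_apply, map_one]; exact Core.isIrr_apply_one_ne_zero hχ)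
  obtain ⟨e, he0, he⟩ := Core.isIrr_apply_one hθ
  obtain ⟨h3, h4⟩ := Cfsg.Agent.S0887.result N χ hχ θ hθ hθ' d e hd he
  refine ⟨θ, e, hθ, hθ', he, h3, h4, he0, fun z hzc hzχ => ?_⟩
  obtain ⟨l, hl⟩ := central_mul hθ hzc
  have e0 : ∑ n : N, (χ ∘ N.subtype) n * conj (θ n) = conj l * ∑ n : N, (χ ∘ N.subtype) n * conj (θ n) := by
    calc ∑ n : N, (χ ∘ N.subtype) n * conj (θ n)
        = ∑ n : N, (χ ∘ N.subtype) (n * z) * conj (θ (n * z)) :=
          (Equiv.sum_comp (Equiv.mulRight z) (fun n => (χ ∘ N.subtype) n * conj (θ n))).symm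
      _ = _ := by
          rw [Finset.mul_sum]
          refine Finset.sum_congr rfl fun n _ => ?_
          have h5 : (χ ∘ N.subtype) (n * z) = (χ ∘ N.subtype) n := kernel_mul hα (by
            change χ z = χ 1
            exact hzχ) n
          rw [hl, map_mul, h5]
          ring
  have e1 : classInner (χ ∘ N.subtype) θ = conj l * classInner (χ ∘ N.subtype) θ := by
    rw [Core.classInner_def, mul_left_comm, ← e0]
  have e2 : conj l = 1 := by
    have : (conj l - 1) * classInner (χ ∘ N.subtype) θ = 0 := by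
      rw [sub_mul, one_mul, ← e1, sub_self]
    exact sub_eq_zero.1 ((mul_eq_zero.1 this).resolve_right hθ')
  have e3 : l = 1 := by
    have := congrArg conj e2
    rwa [Complex.conj_conj, map_one] at this
  have := hl 1
  rwa [one_mul, e3, one_mul] at this

variable {K : Type u} [Field K] [Fintype K] {q n : ℕ}

/-- the index of the special isometry group divides `q + 1` -/
theorem index_sg (hF : Fintype.card K = q ^ 2) (hq : Nat.card K = q ^ 2) (hn : 1 ≤ n) :
    (sg (CForm.hermF K hq n)).index = q + 1 := by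
  have := finite_iso (CForm.hermF K hq n)
  have h1 := (sg (CForm.hermF K hq n)).index_mul_card
  rw [← Nat.card_congr (eSg hq n).toEquiv, ← Nat.card_congr (isoGU hq n).toEquiv] at h1
  have h2 := Cfsg.Agent.S0277.result hF n
  have h3 := Cfsg.Agent.S0278.result hF n hn
  rw [← h2, ← h1] at h3
  exact (Nat.eq_of_mul_eq_mul_right Nat.card_pos h3).symm

/-- a Galois datum is a cuspidal datum -/
theorem cusG_cus (hq : Nat.card K = q ^ 2) {k : ℕ} {c : GL (Fin k) K → ℂ} (hc : CusG K k (powHom hq) c) :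
    Cus K k (powHom hq) (fun z => z ^ (q + 1) = 1) c := by
  refine ⟨hc.irr, hc.cusp, hc.dual, fun z hz => ?_, hc.deg⟩
  obtain ⟨ν, hν⟩ := hc.nu
  have h1 := hν z 1
  rw [mul_one] at h1
  rw [h1]
  have h2 : z * Units.map (powHom hq : K →* K) z = 1 := by
    apply Units.ext
    rw [Units.val_mul, Units.coe_map, Units.val_one]
    change (z : K) * powHom hq (z : K) = 1
    rw [powHom_apply, ← pow_succ', ← Units.val_pow_eq_pow_val, hz, Units.val_one]
  rw [h2, map_one, Units.val_one, one_mul]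

/-- **the characters below `hc c 1`** -/
theorem exists_low (hF : Fintype.card K = q ^ 2) (hq : Nat.card K = q ^ 2) {k n' : ℕ} (hn : 3 ≤ k + (k + n'))
    {c : GL (Fin k) K → ℂ} (hc : CusG K k (powHom hq) c) [Fintype ((CForm.hermF K hq (k + (k + n'))).Om k)]
    [Fintype (sg (CForm.hermF K hq (k + (k + n'))))] :
    ∃ (η : PSU (k + (k + n')) K q → ℂ) (e : ℕ), IsIrrCharacter _ η ∧
      classInner (fun x : sg (CForm.hermF K hq (k + (k + n'))) =>
        (CForm.hermF K hq (k + (k + n'))).hc c (fun _ _ => 1) x) (fun x => η (qh hq (k + (k + n')) x)) ≠ 0 ∧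
      η 1 = e ∧ 0 < e ∧ e ∣ dg (CForm.hermF K hq (k + (k + n'))) k ∧
      dg (CForm.hermF K hq (k + (k + n'))) k / e ∣ q + 1 := by
  classical
  obtain ⟨p, hp⟩ := CharP.exists K
  have hpr : p.Prime := (CharP.char_is_prime_or_zero K p).resolve_right (CharP.char_ne_zero_of_finite K p)
  have : Fact p.Prime := ⟨hpr⟩
  have hfi := finite_iso (CForm.hermF K hq (k + (k + n')))
  obtain ⟨⟨W₀, hW₀⟩, -⟩ := CForm.hermF_frame (K := K) (p := p) hq k n'
  have hcl := Core.isIrr_isClassFunction hc.irr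
  have hirr : IsIrrCharacter (CForm.hermF K hq (k + (k + n'))).iso ((CForm.hermF K hq (k + (k + n'))).hc c (fun _ _ => 1)) := by
    let _ := Fintype.ofFinite (CForm.hermF K hq (k + (k + n'))).iso
    exact (CForm.hermF K hq (k + (k + n'))).isIrr_hc_one hc.irr hc.cusp hc.dual hW₀
  have hdeg : (CForm.hermF K hq (k + (k + n'))).hc c (fun _ _ => 1) 1 = (dg (CForm.hermF K hq (k + (k + n'))) k : ℂ) := by
    rw [(CForm.hermF K hq (k + (k + n'))).hc_one hcl (fun _ _ => 1) (d := 1) (fun _ _ => rfl), hc.deg, mul_one]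
    unfold dg
    rw [Nat.cast_mul]
  obtain ⟨θ, e, hθ, h0, he, h3, h4, h5, h6⟩ := exists_under (sg (CForm.hermF K hq (k + (k + n')))) hirr hdeg
  have hθ' : IsIrrCharacter (SU (k + (k + n')) K q) (θ ∘ (eSg hq (k + (k + n'))).toMonoidHom) :=
    Core.isIrr_comp (eSg hq (k + (k + n'))).toMonoidHom (eSg hq (k + (k + n'))).surjective hθ
  obtain ⟨η, hη, hη'⟩ := exists_quot (Subgroup.center (SU (k + (k + n')) K q)) hθ' (fun z hzc => by
    obtain ⟨a, ha, haq, ha'⟩ := exists_scalar_of_mem_center hF hn hzc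
    change θ (eSg hq (k + (k + n')) z) = θ (eSg hq (k + (k + n')) 1)
    rw [map_one]
    have ha0 : a ≠ 0 := by
      rintro rfl
      rw [zero_mul] at haq
      exact zero_ne_one haq
    refine h6 _ ?_ ?_
    · rw [Subgroup.mem_center_iff]
      intro g
      obtain ⟨g, rfl⟩ := (eSg hq (k + (k + n'))).surjective g
      rw [← map_mul, ← map_mul, Subgroup.mem_center_iff.1 hzc]
    · refine CForm.hc_scalar (CForm.hermF K hq (k + (k + n'))) hcl (fun _ _ => 1) (a := Units.mk0 a ha0) (fun v => ?_)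
        ((cusG_cus hq hc).scal _ ?_) (fun _ _ => rfl)
      · rw [eSg_val, ha', Units.val_mk0]
      · apply Units.ext
        rw [Units.val_pow_eq_pow_val, Units.val_mk0, Units.val_one, pow_succ', haq])
  have hηθ : ∀ x : sg (CForm.hermF K hq (k + (k + n'))), η (qh hq (k + (k + n')) x) = θ x := by
    intro x
    rw [qh_apply]
    have h7 := hη' ((eSg hq (k + (k + n'))).symm x)
    have h8 : (θ ∘ (eSg hq (k + (k + n'))).toMonoidHom) ((eSg hq (k + (k + n'))).symm x) = θ x :=
      congrArg θ ((eSg hq (k + (k + n'))).apply_symm_apply x)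
    rw [← h8, ← h7]
    rfl
  refine ⟨η, e, hη, ?_, ?_, h5, h3, ?_⟩
  · have h7 : (fun x => η (qh hq (k + (k + n')) x)) = θ := funext hηθ
    rw [h7]
    exact h0
  · rw [← he, ← hηθ 1, map_one]
  · rwa [index_sg hF hq (by omega)] at h4

/-- **divisibility of the degree** -/
theorem dvd_low (hF : Fintype.card K = q ^ 2) (hq : Nat.card K = q ^ 2) {k n' : ℕ} (hn' : n' ≤ 1) (hk : 2 ≤ k)
    {e : ℕ} (he : e ∣ dg (CForm.hermF K hq (k + (k + n'))) k)
    (ht : dg (CForm.hermF K hq (k + (k + n'))) k / e ∣ q + 1) {r i : ℕ} (hr : r.Prime)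
    (hi : i ∈ idx (k + (k + n'))) (hri : r ∣ uu q i) : r ∣ e := by
  obtain ⟨p, hpr, hp, hpq⟩ := prime_pow hF
  have : Fact p.Prime := ⟨hpr⟩
  have hq1 : 1 ≤ q := by have := LieClassical.HermBasic.two_le hF; omega
  have ht0 : 0 < dg (CForm.hermF K hq (k + (k + n'))) k / e := Nat.pos_of_dvd_of_pos ht (by omega)
  obtain ⟨a, ha⟩ : ∃ a, AA q (k + (k + n')) ∣ p ^ a * (e * (dg (CForm.hermF K hq (k + (k + n'))) k / e)) := by
    rw [Nat.mul_div_cancel' he]
    rcases (show n' = 0 ∨ n' = 1 by omega) with rfl | rfl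
    · obtain ⟨a, ha⟩ := dvd_even hq (p := p) (k := k) (by omega)
      refine ⟨a, ?_⟩
      unfold AA
      rw [if_pos ⟨k, by omega⟩]
      have h3 : k + (k + 0) - 1 = 2 * k - 1 := by omega
      rw [h3]
      exact ha
    · obtain ⟨a, ha⟩ := dvd_odd hq (p := p) (k := k) (by omega)
      refine ⟨a, ?_⟩
      unfold AA
      rw [if_neg (Nat.not_even_iff_odd.2 ⟨k, by omega⟩)]
      have h3 : k + (k + 1) - 2 = 2 * k - 1 := by omega
      have h4 : k + (k + 1) = 2 * k + 1 := by omega
      rw [h3]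
      rw [show uu q (k + (k + 1)) = uu q (2 * k + 1) from by rw [h4]]
      exact ha
  refine dvd_of_index ha ht ht0 (prime_mul_dvd_AA hq1 (by omega) hi hri) ((Nat.coprime_primes hr hpr).2 ?_)
  rintro rfl
  exact not_dvd_q hr (idx_le (by omega) hi).1 hq1 hri ((hpq _ hr).2 rfl)

end Cfsg.Agent.H328.Ext
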